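import Cfsg.Agent.Lib.KnownSimple.J1.Chain

/-!
# The first Janko group is simple
-/

set_option autoImplicit false

namespace Cfsg.Agent.Lib.J1S

open Cfsg Cfsg.Spor Cfsg.Agent.Lib.Compute Cfsg.Agent.Lib.KnownSimple.PE Cfsg.Agent.Lib.KnownSimple.J1Data
open Cfsg.Agent.Lib.KnownSimple.J1

/-- A normal subgroup of order divisible by a prime dividing the order of the group only once
contains all the elements of that order. -/
theorem mem_of_normal_sylow_prime {Γ : Type*} [Group Γ] [Finite Γ] {p : ℕ} (hp : p.Prime)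
    (hG : ¬ p ^ 2 ∣ Nat.card Γ) (N : Subgroup Γ) [N.Normal] (hd : p ∣ Nat.card N) {y : Γ}
    (hy : orderOf y = p) : y ∈ N := by
  have : Fact p.Prime := ⟨hp⟩
  obtain ⟨n, hn⟩ := exists_prime_orderOf_dvd_card' p hd
  have hno : orderOf (n : Γ) = p := by rw [Subgroup.orderOf_coe, hn]
  have hzn : IsPGroup p (Subgroup.zpowers (n : Γ)) := by
    refine IsPGroup.of_card (n := 1) ?_
    rw [Nat.card_zpowers, hno, pow_one]
  have hzy : IsPGroup p (Subgroup.zpowers y) := by
    refine IsPGroup.of_card (n := 1) ?_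
    rw [Nat.card_zpowers, hy, pow_one]
  obtain ⟨S, hS⟩ := hzn.exists_le_sylow
  obtain ⟨S2, hS2⟩ := hzy.exists_le_sylow
  have hcardS : Nat.card S = p := by
    obtain ⟨k, hk⟩ := IsPGroup.iff_card.1 S.isPGroup'
    have h1 : p ∣ Nat.card S := by
      have := Subgroup.card_dvd_of_le hS
      rwa [Nat.card_zpowers, hno] at this
    have h2 : Nat.card S ∣ Nat.card Γ := Subgroup.card_subgroup_dvd_card _
    rw [hk] at h1 h2 ⊢
    have hk2 : k < 2 := by
      by_contra hcon
      exact hG ((pow_dvd_pow p (by omega)).trans h2)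
    interval_cases k
    · simp only [pow_zero] at h1
      exact absurd (Nat.dvd_one.1 h1) hp.one_lt.ne'
    · simp
  have hSeq : Subgroup.zpowers (n : Γ) = S := by
    apply Subgroup.eq_of_le_of_card_ge hS
    rw [Nat.card_zpowers, hno, hcardS]
  have hSN : (S : Subgroup Γ) ≤ N := by
    rw [← hSeq, Subgroup.zpowers_le]
    exact n.2
  obtain ⟨g, hg⟩ := MulAction.exists_smul_eq Γ S S2
  have hyS2 : y ∈ (S2 : Subgroup Γ) := hS2 (Subgroup.mem_zpowers y)
  rw [← hg] at hyS2
  have h7 : y ∈ (S : Subgroup Γ).map (MulAut.conj g).toMonoidHom := hyS2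
  obtain ⟨z, hz, rfl⟩ := h7
  exact Subgroup.Normal.conj_mem inferInstance z (hSN hz) g

/-- The generators. -/
noncomputable def gs3 : ℕ → G := cns w (cns u (cns x (fun _ => 1)))
/-- The codes of the generators. -/
noncomputable def cs3 : ℕ → ℕ → ℕ := cns (pc pW) (cns (pc pU) (cns (pc pX2) (fun _ a => a)))

theorem code3 (i : ℕ) : E.IsCode ((gs3 i : G) : Equiv.Perm (Fin N)) (cs3 i) := by
  match i with
  | 0 => exact code_w
  | 1 => exact code_u
  | 2 => exact code_x
  | (k + 3) => exact isCode_one E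

/-- Elements given by words. -/
noncomputable def wd3 (l : List ℕ) : G := (l.map gs3).prod

theorem code_wd3 (l : List ℕ) : E.IsCode ((wd3 l : G) : Equiv.Perm (Fin N)) (evW cs3 l) :=
  isCode_ev gs3 cs3 code3 l

/-- The generators of the second kind. -/
noncomputable def gs2 (a b : G) : ℕ → G := cns a (cns b (fun _ => 1))
/-- The codes of the second kind. -/
noncomputable def cs2 (f g : ℕ → ℕ) : ℕ → ℕ → ℕ := cns f (cns g (fun _ a => a))

theorem code_gs2 {a b : G} {f g : ℕ → ℕ} (ha : E.IsCode ((a : G) : Equiv.Perm (Fin N)) f)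
    (hb : E.IsCode ((b : G) : Equiv.Perm (Fin N)) g) (i : ℕ) :
    E.IsCode ((gs2 a b i : G) : Equiv.Perm (Fin N)) (cs2 f g i) := by
  match i with
  | 0 => exact ha
  | 1 => exact hb
  | (k + 2) => exact isCode_one E

theorem prod_mem_gs2 {a b : G} (K : Subgroup G) (ha : a ∈ K) (hb : b ∈ K) (l : List ℕ) :
    (l.map (gs2 a b)).prod ∈ K := by
  apply Subgroup.list_prod_mem
  intro y hy
  obtain ⟨i, _, rfl⟩ := List.mem_map.1 hy
  match i with
  | 0 => exact ha
  | 1 => exact hb
  | (k + 2) => exact K.one_mem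

/-- The normal closure criterion: `c` and one conjugate generate everything. -/
theorem top_of_words (lc lg lgi lw lu lx : List ℕ)
    (h1 : evW cs3 lg (evW cs3 lgi 10) = 10) (h1' : evW cs3 lg (evW cs3 lgi 0) = 0)
    (hw : evW (cs2 (evW cs3 lc) (fun i => evW cs3 lg (evW cs3 lc (evW cs3 lgi i)))) lw 10 = pc pW 10)
    (hw' : evW (cs2 (evW cs3 lc) (fun i => evW cs3 lg (evW cs3 lc (evW cs3 lgi i)))) lw 0 = pc pW 0)
    (hu : evW (cs2 (evW cs3 lc) (fun i => evW cs3 lg (evW cs3 lc (evW cs3 lgi i)))) lu 10 = pc pU 10)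
    (hu' : evW (cs2 (evW cs3 lc) (fun i => evW cs3 lg (evW cs3 lc (evW cs3 lgi i)))) lu 0 = pc pU 0)
    (hx : evW (cs2 (evW cs3 lc) (fun i => evW cs3 lg (evW cs3 lc (evW cs3 lgi i)))) lx 10 = pc pX2 10)
    (hx' : evW (cs2 (evW cs3 lc) (fun i => evW cs3 lg (evW cs3 lc (evW cs3 lgi i)))) lx 0 = pc pX2 0)
    (K : Subgroup G) [K.Normal] (hc : wd3 lc ∈ K) : K = ⊤ := by
  have hinv : wd3 lg * wd3 lgi = 1 :=
    eq_of_codes (coe_code_mul (code_wd3 lg) (code_wd3 lgi)) (isCode_one E) h1 h1'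
  have hgi : wd3 lgi = (wd3 lg)⁻¹ := eq_inv_of_mul_eq_one_right hinv
  have hc' : wd3 lg * wd3 lc * wd3 lgi ∈ K := by
    rw [hgi]
    exact Subgroup.Normal.conj_mem inferInstance _ hc _
  have hcode : E.IsCode ((wd3 lg * wd3 lc * wd3 lgi : G) : Equiv.Perm (Fin N))
      (fun i => evW cs3 lg (evW cs3 lc (evW cs3 lgi i))) := by
    have e1 := coe_code_mul (code_wd3 lg) (code_wd3 lc)
    have e2 := coe_code_mul e1 (code_wd3 lgi)
    exact e2
  have hcs := code_gs2 (code_wd3 lc) hcode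
  have hmem : ∀ (l : List ℕ) (a : G) (f : ℕ → ℕ), E.IsCode ((a : G) : Equiv.Perm (Fin N)) f →
      evW (cs2 (evW cs3 lc) (fun i => evW cs3 lg (evW cs3 lc (evW cs3 lgi i)))) l 10 = f 10 →
      evW (cs2 (evW cs3 lc) (fun i => evW cs3 lg (evW cs3 lc (evW cs3 lgi i)))) l 0 = f 0 → a ∈ K := by
    intro l a f hf h2 h3
    have h4 := isCode_ev _ _ hcs l
    have h5 : (l.map (gs2 (wd3 lc) (wd3 lg * wd3 lc * wd3 lgi))).prod = a := eq_of_codes h4 hf h2 h3
    rw [← h5]
    exact prod_mem_gs2 K hc hc' l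
  rw [eq_top_iff, ← closure_top, Subgroup.closure_le]
  rintro y (rfl | rfl | rfl)
  · exact hmem lw _ _ code_w hw hw'
  · exact hmem lu _ _ code_u hu hu'
  · exact hmem lx _ _ code_x hx hx'

theorem orderOf_of_word {q : ℕ} (hq : q.Prime) (l : List ℕ) (h1 : iterN (evW cs3 l) q 10 = 10)
    (h2 : iterN (evW cs3 l) q 0 = 0) (i : ℕ) (hi : i < N) (h3 : evW cs3 l i ≠ i) :
    orderOf (wd3 l) = q := by
  have : Fact q.Prime := ⟨hq⟩
  refine orderOf_eq_prime (eq_of_codes (coe_pow_isCode (code_wd3 l) q) (isCode_one E) h1 h2) ?_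
  intro h
  have h4 := code_idx (code_wd3 l) hi
  rw [h] at h4
  apply h3
  have h5 : (1 : Equiv.Perm (Fin N)) (E.pt i) = E.pt i := rfl
  have h6 : E.idx (E.pt i) = i := E.idx_pt i hi
  rw [← h4]
  exact (congrArg E.idx h5).trans h6

/-- A word for an element of order 3. -/
def lc3 : List ℕ := [1, 1, 2, 0, 2, 0, 1, 1, 2, 0, 1, 0]
/-- A conjugating word. -/
def lgc3 : List ℕ := [2, 1, 2]
/-- The inverse conjugating word. -/
def lic3 : List ℕ := [1]
/-- A word for the first generator. -/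
def lwc3 : List ℕ := [0, 0, 1, 1, 0, 0, 1, 0, 1, 0, 0, 1, 0, 0, 1, 1, 0, 0, 1, 0, 0, 1, 1]
/-- A word for the second generator. -/
def luc3 : List ℕ := [1, 1, 0, 0, 1, 0, 1, 0, 0, 1, 1, 0, 1, 0, 1, 0, 1, 0, 0, 1, 0, 1, 0, 1, 0]
/-- A word for the third generator. -/
def lxc3 : List ℕ := [0, 1, 0, 1, 0, 1, 0, 1, 1, 0, 1, 1, 0, 1, 0]

theorem order_c3 : orderOf (wd3 lc3) = 3 :=
  orderOf_of_word (by norm_num) _ (by decide +kernel) (by decide +kernel) 0 (by norm_num) (by decide +kernel)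

theorem top_c3 (K : Subgroup G) [K.Normal] (hc : wd3 lc3 ∈ K) : K = ⊤ :=
  top_of_words lc3 lgc3 lic3 lwc3 luc3 lxc3 (by decide +kernel) (by decide +kernel) (by decide +kernel)
    (by decide +kernel) (by decide +kernel) (by decide +kernel) (by decide +kernel) (by decide +kernel) K hc

theorem top_of_dvd_3 (K : Subgroup G) [K.Normal] (hd : 3 ∣ Nat.card K) : K = ⊤ := by
  refine top_c3 K (mem_of_normal_sylow_prime (by norm_num) ?_ K hd order_c3)
  rw [card_H]
  norm_num

/-- A word for an element of order 5. -/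
def lc5 : List ℕ := [0, 2, 0, 2]
/-- A conjugating word. -/
def lgc5 : List ℕ := [2, 1, 0]
/-- The inverse conjugating word. -/
def lic5 : List ℕ := [1, 1, 1, 0, 1, 1, 2]
/-- A word for the first generator. -/
def lwc5 : List ℕ := [1, 0, 1, 0, 1, 0, 0, 1, 1, 0, 1, 1, 0, 0, 1]
/-- A word for the second generator. -/
def luc5 : List ℕ := [0, 1, 0, 0, 0, 1, 0, 0, 1, 1, 0, 1, 1, 1, 1, 0, 0]
/-- A word for the third generator. -/
def lxc5 : List ℕ := [0, 0, 1, 1, 0, 1, 1, 0, 1, 0, 0, 0, 1, 0, 0]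

theorem order_c5 : orderOf (wd3 lc5) = 5 :=
  orderOf_of_word (by norm_num) _ (by decide +kernel) (by decide +kernel) 0 (by norm_num) (by decide +kernel)

theorem top_c5 (K : Subgroup G) [K.Normal] (hc : wd3 lc5 ∈ K) : K = ⊤ :=
  top_of_words lc5 lgc5 lic5 lwc5 luc5 lxc5 (by decide +kernel) (by decide +kernel) (by decide +kernel)
    (by decide +kernel) (by decide +kernel) (by decide +kernel) (by decide +kernel) (by decide +kernel) K hc

theorem top_of_dvd_5 (K : Subgroup G) [K.Normal] (hd : 5 ∣ Nat.card K) : K = ⊤ := by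
  refine top_c5 K (mem_of_normal_sylow_prime (by norm_num) ?_ K hd order_c5)
  rw [card_H]
  norm_num

/-- A word for an element of order 7. -/
def lc7 : List ℕ := [1, 2, 0, 2, 0, 0, 0, 0]
/-- A conjugating word. -/
def lgc7 : List ℕ := [1, 2, 2]
/-- The inverse conjugating word. -/
def lic7 : List ℕ := [2, 1, 2]
/-- A word for the first generator. -/
def lwc7 : List ℕ := [0, 0, 0, 0, 0, 0, 1, 1, 1, 0, 0, 0, 0, 1, 1, 0]
/-- A word for the second generator. -/
def luc7 : List ℕ := [0, 1, 0, 0, 1, 1, 0]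
/-- A word for the third generator. -/
def lxc7 : List ℕ := [1, 0, 0, 1, 0, 1, 0, 0, 1, 0, 1, 1, 0, 0, 1, 1, 1]

theorem order_c7 : orderOf (wd3 lc7) = 7 :=
  orderOf_of_word (by norm_num) _ (by decide +kernel) (by decide +kernel) 0 (by norm_num) (by decide +kernel)

theorem top_c7 (K : Subgroup G) [K.Normal] (hc : wd3 lc7 ∈ K) : K = ⊤ :=
  top_of_words lc7 lgc7 lic7 lwc7 luc7 lxc7 (by decide +kernel) (by decide +kernel) (by decide +kernel)
    (by decide +kernel) (by decide +kernel) (by decide +kernel) (by decide +kernel) (by decide +kernel) K hc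

theorem top_of_dvd_7 (K : Subgroup G) [K.Normal] (hd : 7 ∣ Nat.card K) : K = ⊤ := by
  refine top_c7 K (mem_of_normal_sylow_prime (by norm_num) ?_ K hd order_c7)
  rw [card_H]
  norm_num

/-- A word for an element of order 11. -/
def lc11 : List ℕ := [2, 1, 0, 1, 0, 2, 0, 1]
/-- A conjugating word. -/
def lgc11 : List ℕ := [2]
/-- The inverse conjugating word. -/
def lic11 : List ℕ := [2]
/-- A word for the first generator. -/
def lwc11 : List ℕ := [0, 1, 1, 0, 1, 1, 1, 1, 1, 0, 1, 1, 1, 0, 1, 0]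
/-- A word for the second generator. -/
def luc11 : List ℕ := [0, 0, 0, 0, 1, 1, 1, 0, 1, 1, 0, 0, 0, 0, 0, 1]
/-- A word for the third generator. -/
def lxc11 : List ℕ := [0, 1, 0, 1, 0, 1, 0]

theorem order_c11 : orderOf (wd3 lc11) = 11 :=
  orderOf_of_word (by norm_num) _ (by decide +kernel) (by decide +kernel) 0 (by norm_num) (by decide +kernel)

theorem top_c11 (K : Subgroup G) [K.Normal] (hc : wd3 lc11 ∈ K) : K = ⊤ :=
  top_of_words lc11 lgc11 lic11 lwc11 luc11 lxc11 (by decide +kernel) (by decide +kernel) (by decide +kernel)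
    (by decide +kernel) (by decide +kernel) (by decide +kernel) (by decide +kernel) (by decide +kernel) K hc

theorem top_of_dvd_11 (K : Subgroup G) [K.Normal] (hd : 11 ∣ Nat.card K) : K = ⊤ := by
  refine top_c11 K (mem_of_normal_sylow_prime (by norm_num) ?_ K hd order_c11)
  rw [card_H]
  norm_num

/-- A word for an element of order 19. -/
def lc19 : List ℕ := [2, 0, 0]
/-- A conjugating word. -/
def lgc19 : List ℕ := [2, 2, 2]
/-- The inverse conjugating word. -/
def lic19 : List ℕ := [2]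
/-- A word for the first generator. -/
def lwc19 : List ℕ := [1, 0, 1, 0, 1, 0, 1, 0, 1, 0]
/-- A word for the second generator. -/
def luc19 : List ℕ := [1, 1, 1, 1, 0, 1, 1, 0, 1, 0, 0, 0, 0, 1, 1, 1, 0, 1, 0]
/-- A word for the third generator. -/
def lxc19 : List ℕ := [0, 0, 0, 1, 1, 1, 0, 0, 0]

theorem order_c19 : orderOf (wd3 lc19) = 19 :=
  orderOf_of_word (by norm_num) _ (by decide +kernel) (by decide +kernel) 0 (by norm_num) (by decide +kernel)

theorem top_c19 (K : Subgroup G) [K.Normal] (hc : wd3 lc19 ∈ K) : K = ⊤ :=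
  top_of_words lc19 lgc19 lic19 lwc19 luc19 lxc19 (by decide +kernel) (by decide +kernel) (by decide +kernel)
    (by decide +kernel) (by decide +kernel) (by decide +kernel) (by decide +kernel) (by decide +kernel) K hc

theorem top_of_dvd_19 (K : Subgroup G) [K.Normal] (hd : 19 ∣ Nat.card K) : K = ⊤ := by
  refine top_c19 K (mem_of_normal_sylow_prime (by norm_num) ?_ K hd order_c19)
  rw [card_H]
  norm_num

theorem ne_of_codes {a b : G} {f g : ℕ → ℕ} (h1 : E.IsCode ((a : G) : Equiv.Perm (Fin N)) f)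
    (h2 : E.IsCode ((b : G) : Equiv.Perm (Fin N)) g) (i : ℕ) (hi : i < N) (h : f i ≠ g i) : a ≠ b := by
  intro hab
  subst hab
  apply h
  have e1 := code_idx h1 hi
  have e2 := code_idx h2 hi
  exact e1.symm.trans e2

/-- The powers of `u` (up to the fifth) do not commute with `w`. -/
theorem u_pow_comm {b : ℕ} (hb : b < 6) (h : u ^ b * w = w * u ^ b) : b = 0 := by
  by_contra hb0
  have key : ∀ b, b = 1 ∨ b = 2 ∨ b = 3 ∨ b = 4 ∨ b = 5 → u ^ b * w ≠ w * u ^ b := by
    rintro b (rfl | rfl | rfl | rfl | rfl)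
    · exact ne_of_codes (coe_code_mul (coe_pow_isCode code_u 1) code_w) (coe_code_mul code_w (coe_pow_isCode code_u 1)) 0
        (by norm_num) (by decide +kernel)
    · exact ne_of_codes (coe_code_mul (coe_pow_isCode code_u 2) code_w) (coe_code_mul code_w (coe_pow_isCode code_u 2)) 0
        (by norm_num) (by decide +kernel)
    · exact ne_of_codes (coe_code_mul (coe_pow_isCode code_u 3) code_w) (coe_code_mul code_w (coe_pow_isCode code_u 3)) 0
        (by norm_num) (by decide +kernel)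
    · exact ne_of_codes (coe_code_mul (coe_pow_isCode code_u 4) code_w) (coe_code_mul code_w (coe_pow_isCode code_u 4)) 0
        (by norm_num) (by decide +kernel)
    · exact ne_of_codes (coe_code_mul (coe_pow_isCode code_u 5) code_w) (coe_code_mul code_w (coe_pow_isCode code_u 5)) 0
        (by norm_num) (by decide +kernel)
  exact key b (by omega) h

theorem pow_aux {Γ : Type*} [Group Γ] (z : Γ) (h8 : z ^ 8 = 1) (h19 : z ^ 19 = 1) : z = 1 := by
  have h1 : z ^ 57 = 1 := by
    have : z ^ 57 = (z ^ 19) ^ 3 := by rw [← pow_mul]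
    rw [this, h19, one_pow]
  have h2 : z ^ 56 = 1 := by
    have : z ^ 56 = (z ^ 8) ^ 7 := by rw [← pow_mul]
    rw [this, h8, one_pow]
  have h3 : z ^ 57 = z ^ 56 * z := pow_succ z 56
  rw [h1, h2, one_mul] at h3
  exact h3.symm

/-- A normal subgroup of order dividing 8 is trivial. -/
theorem eq_bot_of_card_dvd (K : Subgroup G) [K.Normal] (hK : Nat.card K ∣ 8) : K = ⊥ := by
  rw [eq_bot_iff]
  intro y hy
  rw [Subgroup.mem_bot]
  have hKle : Nat.card K ≤ 8 := Nat.le_of_dvd (by norm_num) hK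
  -- pigeonhole on the conjugates of `y` by powers of `w`
  let f : Fin 19 → K := fun k => ⟨w ^ (k : ℕ) * y * (w ^ (k : ℕ))⁻¹, Subgroup.Normal.conj_mem inferInstance _ hy _⟩
  obtain ⟨k, k', hne, hkk⟩ : ∃ k k' : Fin 19, k ≠ k' ∧ f k = f k' := by
    classical
    letI := Fintype.ofFinite K
    apply Fintype.exists_ne_map_eq_of_card_lt
    rw [Fintype.card_fin, ← Nat.card_eq_fintype_card]
    omega
  have hcomm : ∀ a b : ℕ, a < b → b < 19 → w ^ a * y * (w ^ a)⁻¹ = w ^ b * y * (w ^ b)⁻¹ → w * y = y * w := by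
    intro a b hab hb h
    obtain ⟨d, rfl⟩ : ∃ d, b = a + d := ⟨b - a, by omega⟩
    have hd0 : 0 < d := by omega
    have hd19 : d < 19 := by omega
    have h1 : y = w ^ d * y * (w ^ d)⁻¹ := by
      have h2 : w ^ (a + d) = w ^ a * w ^ d := pow_add _ _ _
      rw [h2] at h
      have h3 : (w ^ a)⁻¹ * (w ^ a * y * (w ^ a)⁻¹) * w ^ a = (w ^ a)⁻¹ * (w ^ a * w ^ d * y * (w ^ a * w ^ d)⁻¹) * w ^ a := by
        rw [h]
      simpa [mul_assoc] using h3
    have h2 : Commute (w ^ d) y := by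
      show w ^ d * y = y * w ^ d
      have h3 : y * w ^ d = w ^ d * y * (w ^ d)⁻¹ * w ^ d := by rw [← h1]
      rw [h3]
      group
    have hco : Nat.Coprime d 19 := by
      have : Nat.Prime 19 := by norm_num
      exact (Nat.coprime_comm.1 ((Nat.Prime.coprime_iff_not_dvd this).2 fun hdv => by
        have := Nat.le_of_dvd hd0 hdv
        omega))
    obtain ⟨m, -, hm⟩ := Nat.exists_mul_mod_eq_one_of_coprime hco (by norm_num)
    have h3 : (w ^ d) ^ m = w := by
      rw [← pow_mul, pow_mod_w, hm, pow_one]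
    have h4 : Commute w y := by
      rw [← h3]
      exact h2.pow_left m
    exact h4
  have hc : w * y = y * w := by
    have hkk' : w ^ (k : ℕ) * y * (w ^ (k : ℕ))⁻¹ = w ^ (k' : ℕ) * y * (w ^ (k' : ℕ))⁻¹ := congrArg Subtype.val hkk
    rcases lt_or_gt_of_ne (fun h => hne (Fin.ext h) : (k : ℕ) ≠ k') with h | h
    · exact hcomm _ _ h k'.2 hkk'
    · exact hcomm _ _ h k.2 hkk'.symm
  have h5 : y * w * y⁻¹ = w ^ 1 := by
    rw [pow_one, ← hc]
    group
  obtain ⟨a, b, hb, rfl⟩ := hN y 1 h5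
  -- `u ^ b` commutes with `w`
  have h6 : u ^ b * w = w * u ^ b := by
    have h7 : w * (w ^ a * u ^ b) = w ^ a * (w * u ^ b) := by
      rw [← mul_assoc, ← mul_assoc, ← pow_succ, ← pow_succ']
    have h8 : (w ^ a * u ^ b) * w = w ^ a * (u ^ b * w) := by group
    rw [h7, h8] at hc
    exact (mul_left_cancel hc).symm
  have hb0 := u_pow_comm hb h6
  subst hb0
  simp only [pow_zero, mul_one] at hy ⊢
  have h8 : (w ^ a) ^ 8 = 1 := by
    have h9 : (⟨w ^ a, hy⟩ : K) ^ Nat.card K = 1 := pow_card_eq_one'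
    have h10 : (⟨w ^ a, hy⟩ : K) ^ 8 = 1 := by
      obtain ⟨t, ht⟩ := hK
      rw [ht, pow_mul, h9, one_pow]
    exact congrArg Subtype.val h10
  have h19 : (w ^ a) ^ 19 = 1 := by
    rw [← pow_mul, mul_comm, pow_mul, w_pow, one_pow]
  exact pow_aux _ h8 h19

theorem card_G : Nat.card G = 175560 := card_H

/-- The first Janko group (as a permutation group) is simple. -/
theorem simple_G : IsSimpleGroup G := by
  have hnt : Nontrivial G := by
    apply (Finite.one_lt_card_iff_nontrivial).1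
    rw [card_G]
    norm_num
  refine ⟨fun K hK => ?_⟩
  by_cases h3 : 3 ∣ Nat.card K
  · exact Or.inr (top_of_dvd_3 K h3)
  by_cases h5 : 5 ∣ Nat.card K
  · exact Or.inr (top_of_dvd_5 K h5)
  by_cases h7 : 7 ∣ Nat.card K
  · exact Or.inr (top_of_dvd_7 K h7)
  by_cases h11 : 11 ∣ Nat.card K
  · exact Or.inr (top_of_dvd_11 K h11)
  by_cases h19 : 19 ∣ Nat.card K
  · exact Or.inr (top_of_dvd_19 K h19)
  left
  apply eq_bot_of_card_dvd
  have hd : Nat.card K ∣ 8 * (3 * (5 * (7 * (11 * 19)))) := by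
    have := Subgroup.card_subgroup_dvd_card K
    rw [card_G] at this
    exact this
  have c3 : Nat.Coprime (Nat.card K) 3 := Nat.Coprime.symm ((Nat.Prime.coprime_iff_not_dvd (by norm_num)).2 h3)
  have c5 : Nat.Coprime (Nat.card K) 5 := Nat.Coprime.symm ((Nat.Prime.coprime_iff_not_dvd (by norm_num)).2 h5)
  have c7 : Nat.Coprime (Nat.card K) 7 := Nat.Coprime.symm ((Nat.Prime.coprime_iff_not_dvd (by norm_num)).2 h7)
  have c11 : Nat.Coprime (Nat.card K) 11 := Nat.Coprime.symm ((Nat.Prime.coprime_iff_not_dvd (by norm_num)).2 h11)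
  have c19 : Nat.Coprime (Nat.card K) 19 := Nat.Coprime.symm ((Nat.Prime.coprime_iff_not_dvd (by norm_num)).2 h19)
  exact (c3.mul_right (c5.mul_right (c7.mul_right (c11.mul_right c19)))).dvd_of_dvd_mul_right hd

/-- The first Janko group (as a matrix group) is simple. -/
theorem simple_J1 : IsSimpleGroup J1 := by
  have : IsSimpleGroup ρ.range := simple_G
  exact (MonoidHom.ofInjective ρ_inj).isSimpleGroup

end Cfsg.Agent.Lib.J1S
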